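import Cfsg.Agent.H417.DegMTwentyTwo
import Cfsg.Agent.SmallSimple.BTGroup

/-!
# `M22`: the centralizers of the `{2, 3, 5}`-elements (helper854)
-/

set_option autoImplicit false

open Cfsg Subgroup

namespace Cfsg.Agent.H854.TC.MTwentyTwo

variable {G : Type*} [Group G] [Finite G] [IsSimpleGroup G]

/-- a nontrivial element of order prime to 77 of a simple group of order 443520 -/
theorem cent_le (hcard : Nat.card G = 443520) {g : G} (hg : g ≠ 1) (h7 : ¬ 7 ∣ orderOf g) (h11 : ¬ 11 ∣ orderOf g) :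
    Nat.card (centralizer ({g} : Set G)) ≤ 5760 := by
  have f11 : Fact (Nat.Prime 11) := ⟨by norm_num⟩
  have f7 : Fact (Nat.Prime 7) := ⟨by norm_num⟩
  have s11 : ∀ Q : Sylow 11 G, centralizer (Q : Set G) = (Q : Subgroup G) :=
    fun Q => (Cfsg.Agent.M22.Sylow11.sylow_eleven hcard Q).1
  obtain ⟨P⟩ : Nonempty (Sylow 11 G) := inferInstance
  obtain ⟨Q⟩ : Nonempty (Sylow 7 G) := inferInstance
  have s7 := Cfsg.Agent.M22.Sylow7Core.sylow_seven_core hcard s11 Q
    (fun _ hK h8 => Cfsg.Agent.M22.SevenThreeEight.false_three_eight hcard s11 Q hK h8)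
    (fun _ hK h4 => Cfsg.Agent.M22.SevenSixFour.false_six_four hcard s11 Q hK h4)
  have hP : Nat.card P = 11 := Cfsg.Agent.M22.Degrees.card_sylow_eq (m := 40320) (by rw [hcard]) (by norm_num) P
  have hQ : Nat.card Q = 7 := Cfsg.Agent.M22.Degrees.card_sylow_eq (m := 63360) (by rw [hcard]) (by norm_num) Q
  have d11 := Cfsg.Agent.SmallSimple.BTGroup.not_dvd_card_centralizer P hP (s11 P) hg h11
  have d7 := Cfsg.Agent.SmallSimple.BTGroup.not_dvd_card_centralizer Q hQ s7.1 hg h7
  have hd := (centralizer ({g} : Set G)).card_subgroup_dvd_card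
  rw [hcard, show 443520 = 5760 * 7 * 11 by norm_num] at hd
  have h1 := (((Nat.Prime.coprime_iff_not_dvd f11.out).2 d11).symm).dvd_of_dvd_mul_right hd
  have h2 := (((Nat.Prime.coprime_iff_not_dvd f7.out).2 d7).symm).dvd_of_dvd_mul_right h1
  exact Nat.le_of_dvd (by norm_num) h2

end Cfsg.Agent.H854.TC.MTwentyTwo
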