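import Cfsg.Agent.H854.TC.J4Ext
import Cfsg.Agent.H854.TC.MTwentyTwo
import Cfsg.Agent.H854.Ore.J4Pow
import Cfsg.Agent.H762.RatB.J4
import Cfsg.Agent.H140.TC.Fam
import Cfsg.Agent.H210.TC.Row

/-!
# Row `J4` of S4173, S2464 and S2452: the class of the elements of order 23 (helper854)
-/

set_option autoImplicit false
set_option Elab.async false

open Cfsg Subgroup

namespace Cfsg.Agent.H854.TC

section T1

open Cfsg.Agent.H653.Sieve Cfsg.Agent.H651.Two Cfsg.Agent.Characters.Core Cfsg.Agent.H511.Ore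
open Cfsg.Agent.SmallSimple.ThetaSetup Cfsg.Agent.SmallSimple.PrimeLocal

universe u

variable {G : Type u} [Group G] [Finite G]

/-- the fourth moment at a given element -/
theorem fourth_at [IsSimpleGroup G] [Fintype (IrrCharacter G)] (hG : ¬ IsMulCommutative G) {N : ℕ}
    (hN : Nat.card G = N) {c : CD} (hr : c.r.Prime) (hk : c.k = 1) (hok : c.ok N = true) {x : G} (hx : orderOf x = c.r)
    (hcx : Nat.card (centralizer ({x} : Set G)) = c.r) :
    8 * (∑ χ : IrrCharacter G, ‖(χ : G → ℂ) x‖ ^ 4 - 1) ≤ s4 c.r c.e c.t ∧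
      ∀ χ : IrrCharacter G, c.r ∣ charDegree (χ : G → ℂ) → (χ : G → ℂ) x = 0 := by
  have : Fact c.r.Prime := ⟨hr⟩
  obtain ⟨P, hP, hPx, hp2, ht, he, hCP⟩ := exists_sylow hG hN hx (k := c.k) (by rw [hcx, hk, mul_one]) c.e c.t c.wl c.c
    c.b hok
  have hxP : x ∈ P := by
    have : x ∈ (P : Subgroup G) := by rw [hPx]; exact mem_zpowers x
    exact this
  have hx1 : x ≠ 1 := by rintro rfl; rw [orderOf_one] at hx; exact hr.one_lt.ne hx
  have hC : centralizer (P : Set G) = (P : Subgroup G) := by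
    symm
    apply Subgroup.eq_of_le_of_card_ge (le_centralizer hP)
    have h3 : Nat.card (centralizer (P : Set G)) = c.r * c.k := hCP
    have h4 : Nat.card (P : Subgroup G) = c.r := hP
    rw [h3, hk, mul_one, h4]
  refine ⟨fourth hp2 hP hC he ht hxP hx1, fun χ hχ => ?_⟩
  have hd : c.r ∣ Nat.card G := by rw [← hP]; exact Subgroup.card_subgroup_dvd_card _
  have hnd : ¬ c.r ^ 2 ∣ Nat.card G := by
    simp only [CD.ok, numOK, Bool.and_eq_true, bne_iff_ne, beq_iff_eq, ne_eq] at hok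
    rw [hN]
    exact fun h => hok.1.1.1.1.2 (Nat.mod_eq_zero_of_dvd h)
  exact vanish_of_dvd hr (n := 1) (by rwa [pow_one]) hnd (by rwa [pow_one]) (by rw [hx])

/-- **T1 for a given element**: products of a conjugate of `x` and a conjugate of `x⁻¹` -/
theorem prd_at [IsSimpleGroup G] (hG : ¬ IsMulCommutative G) (N : ℕ)
    (hN : Nat.card G = N) (L : List (ℕ × ℕ)) (hL : (L.all fun pa => Nat.Prime pa.1) = true) (hLN : facProd L = N)
    (cd : List CD) (hcd : (cd.all (CD.ok N)) = true) (hx : ∀ d ∈ cd, d.Has G) {m D : ℕ} {ex : List ℕ} (hm : MinDeg G m)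
    (hex : NoDeg G ex) (c : CD) (hc : c ∈ cd) (hk : c.k = 1) (h : allDiv (D * D) (tst c.r m ex cd) L 1 = true)
    (K : ℕ) (hK : K * s4 c.r c.e c.t < 8 * (D * D)) {x : G} (hr : c.r.Prime) (hxo : orderOf x = c.r)
    (hcx : Nat.card (centralizer ({x} : Set G)) = c.r) {g : G} (hg : Nat.card (centralizer ({g} : Set G)) ≤ K) :
    ∃ u v : G, g = (u * x * u⁻¹) * (v * x⁻¹ * v⁻¹) := by
  have : Finite (IrrCharacter G) := finite_irr
  have := Fintype.ofFinite (IrrCharacter G)
  obtain ⟨hS, hv⟩ := fourth_at hG hN hr hk (List.all_eq_true.1 hcd c hc) hxo hcx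
  have hD := degOff_of_check hG N hN L hL hLN cd hcd hx hm hex h
  have hD0 : 0 < D := by
    rcases Nat.eq_zero_or_pos D with h0 | h0
    · rw [h0] at hK; omega
    · exact h0
  have hinv : ∀ χ : IrrCharacter G, ‖(χ : G → ℂ) x⁻¹‖ = ‖(χ : G → ℂ) x‖ := fun χ => by
    rw [isCharacter_apply_inv (isIrr_isCharacter χ.2), Complex.norm_conj]
  obtain ⟨a, b, hab⟩ := exists_conj_of_sum (x := x) (y := x⁻¹) (g := g) (d := D) (S := (s4 c.r c.e c.t : ℝ) / 8)
    (le_trans (le_of_eq (Finset.sum_congr rfl fun χ _ => by rw [hinv χ]; ring))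
      (show ∑ χ : IrrCharacter G, ‖(χ : G → ℂ) x‖ ^ 4 ≤ 1 + (s4 c.r c.e c.t : ℝ) / 8 by linarith))
    (fun χ h1 h2 _ => hD χ h1 fun h3 => h2 (hv χ h3)) (by
      have h1 : (Nat.card (Subgroup.centralizer ({g} : Set G)) : ℝ) ≤ K := by exact_mod_cast hg
      have h2 : ((K * s4 c.r c.e c.t : ℕ) : ℝ) < ((8 * (D * D) : ℕ) : ℝ) := by exact_mod_cast hK
      push_cast at h2
      have h3 : (Nat.card (Subgroup.centralizer ({g} : Set G)) : ℝ) * (s4 c.r c.e c.t : ℝ) ≤ K * (s4 c.r c.e c.t : ℝ) :=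
        mul_le_mul_of_nonneg_right h1 (Nat.cast_nonneg _)
      nlinarith) hD0
  exact ⟨a, b, hab.symm⟩

end T1

/-- a group of prime order `p` with an automizer of order `p - 1` : its elements are conjugate to their inverses -/
theorem conj_inv {G : Type*} [Group G] [Finite G] {p : ℕ} (hp : p.Prime) {x : G} (hx : orderOf x = p)
    (hC : Nat.card (centralizer ((zpowers x : Subgroup G) : Set G)) = p)
    (hN : Nat.card (normalizer ((zpowers x : Subgroup G) : Set G)) = p * (p - 1)) : ∃ w : G, w * x * w⁻¹ = x⁻¹ := by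
  classical
  set P := zpowers x with hPdef
  have hP : Nat.card P = p := by rw [Nat.card_zpowers, hx]
  let f := Subgroup.normalizerMonoidHom P
  have hk : Nat.card f.ker = p := by
    rw [Subgroup.normalizerMonoidHom_ker]
    rw [Nat.card_congr (Subgroup.subgroupOfEquivOfLe (Subgroup.centralizer_le_normalizer _)).toEquiv, hC]
  have hr : Nat.card f.range = p - 1 := by
    have h1 := Subgroup.card_eq_card_quotient_mul_card_subgroup f.ker
    rw [Nat.card_congr (QuotientGroup.quotientKerEquivRange f).toEquiv, hk, hN, mul_comm] at h1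
    exact (Nat.eq_of_mul_eq_mul_right hp.pos h1).symm
  have hA : Nat.card (MulAut P) = p - 1 := by
    rw [IsCyclic.card_mulAut, hP, Nat.totient_prime hp]
  have hfin : Finite (MulAut P) := Nat.finite_of_card_ne_zero (by rw [hA]; have := hp.two_le; omega)
  have htop : f.range = ⊤ := Subgroup.eq_top_of_card_eq _ (by rw [hr, hA])
  have hcomm : ∀ a b : P, a * b = b * a := fun a b => by
    obtain ⟨i, hi⟩ := mem_zpowers_iff.1 a.2
    obtain ⟨j, hj⟩ := mem_zpowers_iff.1 b.2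
    apply Subtype.ext
    show (a : G) * b = b * a
    rw [← hi, ← hj, ← zpow_add, ← zpow_add, add_comm]
  let ι : MulAut P :=
    { toFun := fun a => a⁻¹
      invFun := fun a => a⁻¹
      left_inv := fun a => inv_inv a
      right_inv := fun a => inv_inv a
      map_mul' := fun a b => by rw [mul_inv_rev, hcomm] }
  obtain ⟨w, hw⟩ : ι ∈ f.range := by rw [htop]; trivial
  refine ⟨w, ?_⟩
  have h1 := congrArg Subtype.val (DFunLike.congr_fun hw ⟨x, mem_zpowers x⟩)
  exact h1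

namespace JFour

open Cfsg.Agent.J4.Invol
open Cfsg.Agent.H511.Ore Cfsg.Agent.H651.Two Cfsg.Agent.H653.Sieve
open Cfsg.Agent.H854.JM Cfsg.Agent.H854.Ore

/-- the group `Spor.J4` -/
local notation "𝒢" => Cfsg.Spor.J4

/-- `x` of order 23 -/
theorem t1 {x : 𝒢} (hx : orderOf x = 23) {g : 𝒢} (hg : Nat.card (centralizer ({g} : Set 𝒢)) ≤ 80000) :
    ∃ u v : 𝒢, g = (u * x * u⁻¹) * (v * x⁻¹ * v⁻¹) := by
  have := simple_J
  have hfin := fin
  have hdiv : allDiv (1333 * 1333) (tst 23 2 [] cdJ) LJ 1 = true := by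
    decide +kernel
  exact prd_at noncomm_J 86775571046077562880 card'' LJ hL hLN cdJ hcd hasJ (m := 2) (D := 1333) (ex := [])
    (fun χ h => H511.Ore.two_le_charDegree noncomm_J χ h) (fun χ => List.not_mem_nil)
    ⟨23, 1, 22, 1, [(0, 0), (1, 1), (22, -1)], 0, false⟩ (by simp [cdJ]) rfl hdiv 80000
    (by norm_num [H511.Ore.s4]) (by norm_num) hx
    (by rw [← Ore.cent_zpowers]; exact lc.cp 23 (by simp) _ (by rw [Nat.card_zpowers, hx])) hg

/-- the elements of order 23 are real -/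
theorem real {x : 𝒢} (hx : orderOf x = 23) : ∃ w : 𝒢, w * x * w⁻¹ = x⁻¹ := by
  have hfin := fin
  have h := H859.BigNum.data23 (P := zpowers x) (by rw [Nat.card_zpowers, hx])
  exact conj_inv (by norm_num) hx h.1 h.2

/-- a Sylow 3-subgroup with its centralizer in `N` -/
theorem exists_U : ∃ U : Subgroup 𝒢, centralizer (U : Set 𝒢) ≤ N ∧ ∃ c ∈ U, orderOf c = 3 ∧ ∀ u ∈ U, c * u = u * c := by
  have hfin := fin
  have f3 : Fact (Nat.Prime 3) := ⟨by norm_num⟩
  obtain ⟨V, hV⟩ := Sylow.exists_subgroup_card_pow_prime (G := N) 3 (n := 3) (by rw [card_N]; norm_num)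
  have hV27 : Nat.card V = 27 := by rw [hV]; norm_num
  have hVp : IsPGroup 3 V := IsPGroup.of_card hV
  -- the element of order three
  obtain ⟨c, hc⟩ : ∃ c : center V, orderOf c = 3 := by
    have : Nontrivial V := Finite.one_lt_card_iff_nontrivial.1 (by rw [hV27]; norm_num)
    have := hVp.center_nontrivial
    obtain ⟨k, hk⟩ := IsPGroup.iff_card.1 (hVp.to_subgroup (center V))
    have hk0 : k ≠ 0 := by
      rintro rfl
      have h1 := Finite.one_lt_card (α := center V)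
      rw [hk] at h1
      norm_num at h1
    exact exists_prime_orderOf_dvd_card' 3 (by rw [hk]; exact dvd_pow_self 3 hk0)
  -- the involution
  have hmem : ∀ v ∈ V, ∀ a ∈ EJ, (v : 𝒢) * a * (v : 𝒢)⁻¹ ∈ EJ := fun v _ a ha => ext.nconj v ha
  let act : MulAction V EJ :=
    { smul := fun g a => ⟨(g : N) * a * ((g : N) : 𝒢)⁻¹, hmem g g.2 a a.2⟩
      one_smul := fun a => Subtype.ext (by
        show (1 : 𝒢) * a * (1 : 𝒢)⁻¹ = a
        group)
      mul_smul := fun g h a => Subtype.ext (by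
        show (((g : N) : 𝒢) * ((h : N) : 𝒢)) * a * (((g : N) : 𝒢) * ((h : N) : 𝒢))⁻¹ =
          ((g : N) : 𝒢) * (((h : N) : 𝒢) * a * ((h : N) : 𝒢)⁻¹) * ((g : N) : 𝒢)⁻¹
        group) }
  obtain ⟨e, he, he1⟩ : ∃ e : EJ, e ∈ MulAction.fixedPoints V EJ ∧ e ≠ 1 := by
    by_contra hcon
    push Not at hcon
    have h1 := hVp.card_modEq_card_fixedPoints EJ
    have h2 : Nat.card (MulAction.fixedPoints V EJ) ≤ 1 := by
      have : Subsingleton (MulAction.fixedPoints V EJ) := ⟨fun a b => Subtype.ext (by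
        rw [hcon a a.2, hcon b b.2])⟩
      exact Finite.card_le_one_iff_subsingleton.2 this
    rw [card_EJ inj] at h1
    interval_cases h : Nat.card (MulAction.fixedPoints V EJ)
    · exact absurd h1 (by decide)
    · exact absurd h1 (by decide)
  have heV : ∀ v ∈ V, (e : 𝒢) * v = v * e := by
    intro v hv
    have h1 : ((v : N) : 𝒢) * (e : 𝒢) * ((v : N) : 𝒢)⁻¹ = e := congrArg Subtype.val (he ⟨v, hv⟩)
    exact (mul_inv_eq_iff_eq_mul.1 h1).symm
  let U := V.map N.subtype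
  have hU : Nat.card U = 27 := by rw [Subgroup.card_map_of_injective Subtype.coe_injective, hV27]
  refine ⟨U, ?_, (((c : V) : N) : 𝒢), ⟨(c : V), (c : V).2, rfl⟩, ?_, ?_⟩
  · obtain ⟨w, hw, hcw⟩ := H762.RatB.J4.cent_U hU
    have hC : Nat.card (centralizer (U : Set 𝒢)) = 6 := by rw [hcw, Nat.card_zpowers, hw]
    -- two elements of `N` in the centralizer
    have e1 : (e : 𝒢) ∈ centralizer (U : Set 𝒢) ⊓ N := by
      refine mem_inf.2 ⟨mem_centralizer_iff.2 ?_, EJ_le e.2⟩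
      rintro _ ⟨v, hv, rfl⟩
      exact (heV v hv).symm
    have c1 : (((c : V) : N) : 𝒢) ∈ centralizer (U : Set 𝒢) ⊓ N := by
      refine mem_inf.2 ⟨mem_centralizer_iff.2 ?_, ((c : V) : N).2⟩
      rintro _ ⟨v, hv, rfl⟩
      have h1 := congrArg (fun t : V => ((t : N) : 𝒢)) (mem_center_iff.1 c.2 ⟨v, hv⟩)
      exact h1
    have o2 : orderOf (e : 𝒢) = 2 := orderOf_eq_prime (by rw [pow_two]; exact EJ_sq inj e e.2)
      (fun h => he1 (Subtype.ext h))
    have o3 : orderOf (((c : V) : N) : 𝒢) = 3 := by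
      rw [Subgroup.orderOf_coe, Subgroup.orderOf_coe, Subgroup.orderOf_coe, hc]
    have d2 : 2 ∣ Nat.card (centralizer (U : Set 𝒢) ⊓ N : Subgroup 𝒢) := by
      rw [← o2, ← Subgroup.orderOf_mk _ e1]; exact orderOf_dvd_natCard _
    have d3 : 3 ∣ Nat.card (centralizer (U : Set 𝒢) ⊓ N : Subgroup 𝒢) := by
      rw [← o3, ← Subgroup.orderOf_mk _ c1]; exact orderOf_dvd_natCard _
    have d6 : 2 * 3 ∣ Nat.card (centralizer (U : Set 𝒢) ⊓ N : Subgroup 𝒢) :=
      Nat.Coprime.mul_dvd_of_dvd_of_dvd (by norm_num) d2 d3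
    have h6 : centralizer (U : Set 𝒢) ⊓ N = centralizer (U : Set 𝒢) :=
      Subgroup.eq_of_le_of_card_ge inf_le_left (by rw [hC]; exact Nat.le_of_dvd Nat.card_pos d6)
    exact inf_eq_left.1 h6
  · rw [Subgroup.orderOf_coe, Subgroup.orderOf_coe, Subgroup.orderOf_coe, hc]
  · rintro _ ⟨v, hv, rfl⟩
    exact (congrArg (fun t : V => ((t : N) : 𝒢)) (mem_center_iff.1 c.2 ⟨v, hv⟩)).symm

/-- the elements of order divisible by 3, not by 7 or 11 -/
theorem three_case {g : 𝒢} (h3 : 3 ∣ orderOf g) (h7 : ¬ 7 ∣ orderOf g) (h11 : ¬ 11 ∣ orderOf g) :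
    Nat.card (centralizer ({g} : Set 𝒢)) ≤ 34560 ∨ ∃ u : 𝒢, u * g * u⁻¹ ∈ N := by
  have := simple_J
  have hfin := fin
  have f3 : Fact (Nat.Prime 3) := ⟨by norm_num⟩
  obtain ⟨z, P, hP⟩ := janko
  have hP3 : Nat.card P = 3 := hP.2.2.2.2.2.1
  obtain ⟨y, hy⟩ := exists_prime_orderOf_dvd_card' (G := P) 3 (by rw [hP3])
  have hy3 : orderOf (y : 𝒢) = 3 := by rw [Subgroup.orderOf_coe, hy]
  have hyP : zpowers (y : 𝒢) = P := by
    refine Subgroup.eq_of_le_of_card_ge (zpowers_le.2 y.2) ?_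
    rw [hP3, Nat.card_zpowers, hy3]
  obtain ⟨-, -, h6, hM, hN⟩ := S5563.result noncomm_J z P hP
  have hCP : centralizer ({z} : Set 𝒢) ⊓ centralizer (P : Set 𝒢) = centralizer (P : Set 𝒢) :=
    inf_eq_right.2 ((Subgroup.centralizer_le_normalizer _).trans hN)
  have hCy : centralizer (P : Set 𝒢) = centralizer ({(y : 𝒢)} : Set 𝒢) := by
    have h := Ore.cent_zpowers (y : 𝒢)
    rwa [hyP] at h
  generalize hH : centralizer ({z} : Set 𝒢) ⊓ centralizer (P : Set 𝒢) = H at h6 hM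
  rw [hCP, hCy] at hH
  -- the conjugate
  have hpos : 0 < orderOf g := orderOf_pos g
  obtain ⟨k, hk⟩ := id h3
  have hk0 : k ≠ 0 := by rintro rfl; omega
  have hc : orderOf (g ^ k) = 3 := by
    rw [orderOf_pow' g hk0, hk, Nat.gcd_eq_right (Dvd.intro_left 3 rfl), Nat.mul_div_cancel _ (by omega)]
  obtain ⟨t, ht⟩ := isConj_iff.1 (S5564.result noncomm_J janko (g ^ k) (y : 𝒢) hc hy3)
  obtain ⟨g', hg'⟩ : ∃ g', g' = t * g * t⁻¹ := ⟨_, rfl⟩
  have hgy : g' ^ k = y := by rw [hg', conj_pow, ht]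
  have hord : orderOf g' = orderOf g := by
    rw [hg']
    exact MulEquiv.orderOf_eq (MulAut.conj t) g
  have hcard : Nat.card (centralizer ({g} : Set 𝒢)) = Nat.card (centralizer ({g'} : Set 𝒢)) :=
    card_cent_of_conj (isConj_iff.2 ⟨t, hg'.symm⟩)
  have hle : centralizer ({g'} : Set 𝒢) ≤ H := by
    rw [← hH]
    intro a ha
    rw [mem_centralizer_singleton_iff] at ha ⊢
    rw [← hgy]
    exact ((show Commute a g' from ha).pow_right k)
  have hgH : g' ∈ H := hle (mem_centralizer_singleton_iff.2 rfl)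
  by_cases hz : (⟨g', hgH⟩ : H) ∈ center H
  · right
    obtain ⟨U, hU, c, hcU, hc3, hcc⟩ := exists_U
    obtain ⟨s, hs⟩ := isConj_iff.1 (S5564.result noncomm_J janko (y : 𝒢) c hy3 hc3)
    refine ⟨s * t, hU ?_⟩
    have e1 : s * t * g * (s * t)⁻¹ = s * g' * s⁻¹ := by rw [hg']; group
    rw [e1, mem_centralizer_iff]
    intro u hu
    have h1 : s⁻¹ * u * s ∈ H := by
      rw [← hH, mem_centralizer_singleton_iff]
      have h2 := hcc u hu
      rw [← hs] at h2
      calc s⁻¹ * u * s * y = s⁻¹ * (u * (s * y * s⁻¹)) * s := by group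
        _ = s⁻¹ * (s * y * s⁻¹ * u) * s := by rw [h2]
        _ = _ := by group
    have h2 : s⁻¹ * u * s * g' = g' * (s⁻¹ * u * s) := congrArg Subtype.val (mem_center_iff.1 hz ⟨_, h1⟩)
    calc u * (s * g' * s⁻¹) = s * (s⁻¹ * u * s * g') * s⁻¹ := by group
      _ = s * (g' * (s⁻¹ * u * s)) * s⁻¹ := by rw [h2]
      _ = _ := by group
  · left
    rw [hcard]
    obtain ⟨em⟩ := hM
    have hsim : IsSimpleGroup (H ⧸ center H) := by
      have := Cfsg.Agent.SporadicA.MathieuRecog.simple_M22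
      exact em.isSimpleGroup
    have hcM : Nat.card (H ⧸ center H) = 443520 := by
      rw [Nat.card_congr em.toEquiv, Cfsg.Agent.SporadicA.MathieuRecog.card_M22]
    have hne : (QuotientGroup.mk (⟨g', hgH⟩ : H) : H ⧸ center H) ≠ 1 := by
      rw [ne_eq, QuotientGroup.eq_one_iff]
      exact hz
    have hdv : orderOf (QuotientGroup.mk (⟨g', hgH⟩ : H) : H ⧸ center H) ∣ orderOf g := by
      rw [← hord, ← Subgroup.orderOf_mk g' hgH]
      exact orderOf_map_dvd (QuotientGroup.mk' (center H)) _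
    have hb := MTwentyTwo.cent_le hcM hne (fun h => h7 (h.trans hdv)) (fun h => h11 (h.trans hdv))
    let f : centralizer ({g'} : Set 𝒢) →* H ⧸ center H := (QuotientGroup.mk' (center H)).comp (Subgroup.inclusion hle)
    have hker : Nat.card f.ker ≤ 6 := by
      rw [← h6]
      refine Nat.card_le_card_of_injective (fun a : f.ker => (⟨Subgroup.inclusion hle a, ?_⟩ : center H)) ?_
      · exact (QuotientGroup.eq_one_iff _).1 (MonoidHom.mem_ker.1 a.2)
      · intro a b hab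
        have h1 := congrArg (fun t : center H => ((t : H) : 𝒢)) hab
        exact Subtype.ext (Subtype.ext h1)
    have hran : Nat.card f.range ≤ 5760 := by
      refine le_trans (Subgroup.card_le_of_le ?_) hb
      rintro _ ⟨a, rfl⟩
      rw [mem_centralizer_singleton_iff]
      have h1 : (a : 𝒢) * g' = g' * a := mem_centralizer_singleton_iff.1 a.2
      have h2 : Subgroup.inclusion hle a * (⟨g', hgH⟩ : H) = (⟨g', hgH⟩ : H) * Subgroup.inclusion hle a :=
        Subtype.ext h1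
      exact congrArg (QuotientGroup.mk' (center H)) h2
    have h1 := Subgroup.card_eq_card_quotient_mul_card_subgroup f.ker
    rw [Nat.card_congr (QuotientGroup.quotientKerEquivRange f).toEquiv] at h1
    rw [h1]
    calc Nat.card f.range * Nat.card f.ker ≤ 5760 * 6 := Nat.mul_le_mul hran hker
      _ = _ := by norm_num

/-- an element whose order has a prime divisor at least 5 has a small centralizer -/
theorem five_case {g : 𝒢} {p : ℕ} (hp : p.Prime) (h2 : p ≠ 2) (h3 : p ≠ 3) (h : p ∣ orderOf g) :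
    Nat.card (centralizer ({g} : Set 𝒢)) ≤ 31944 := by
  have F := lc
  have hfin := fin
  have hpos : 0 < orderOf g := orderOf_pos g
  obtain ⟨k, hk⟩ := id h
  have hk0 : k ≠ 0 := by rintro rfl; omega
  have hx : orderOf (g ^ k) = p := by
    rw [orderOf_pow' g hk0, hk, Nat.gcd_eq_right (Dvd.intro_left p rfl), Nat.mul_div_cancel _ (by omega)]
  have hle : centralizer ({g} : Set 𝒢) ≤ centralizer ({g ^ k} : Set 𝒢) := by
    intro c hc
    rw [mem_centralizer_singleton_iff] at hc ⊢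
    exact ((show Commute c g from hc).pow_right k)
  refine (Subgroup.card_le_of_le hle).trans ?_
  have hpn : p ∣ 86775571046077562880 := by
    rw [← card'', ← hx]
    exact orderOf_dvd_natCard _
  have hn : 86775571046077562880 = 2 ^ 21 * 3 ^ 3 * 5 * 7 * 11 ^ 3 * 23 * 29 * 31 * 37 * 43 := by norm_num
  have hcases : p ∈ [5, 7, 11, 23, 29, 31, 37, 43] := by
    rw [hn] at hpn
    simp only [hp.dvd_mul] at hpn
    have h1 : ∀ q n : ℕ, q.Prime → p ∣ q ^ n → p = q := fun q n hq hd => (Nat.prime_dvd_prime_iff_eq hp hq).1 (hp.dvd_of_dvd_pow hd)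
    have h0 : ∀ q : ℕ, q.Prime → p ∣ q → p = q := fun q hq hd => (Nat.prime_dvd_prime_iff_eq hp hq).1 hd
    simp only [List.mem_cons, List.not_mem_nil, or_false]
    rcases hpn with ((((((((h | h) | h) | h) | h) | h) | h) | h) | h) | h
    · exact absurd (h1 2 _ (by norm_num) h) h2
    · exact absurd (h1 3 _ (by norm_num) h) h3
    · have := h0 5 (by norm_num) h; omega
    · have := h0 7 (by norm_num) h; omega
    · have := h1 11 _ (by norm_num) h; omega
    · have := h0 23 (by norm_num) h; omega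
    · have := h0 29 (by norm_num) h; omega
    · have := h0 31 (by norm_num) h; omega
    · have := h0 37 (by norm_num) h; omega
    · have := h0 43 (by norm_num) h; omega
  have hQ : Nat.card (zpowers (g ^ k)) = p := by rw [Nat.card_zpowers, hx]
  simp only [List.mem_cons, List.not_mem_nil, or_false] at hcases
  rcases hcases with rfl | rfl | rfl | rfl | rfl | rfl | rfl | rfl
  · rw [← Ore.cent_zpowers, F.c5 _ hQ]; norm_num
  · rw [← Ore.cent_zpowers, F.c7 _ hQ]; norm_num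
  · exact cent_eleven hx
  · rw [← Ore.cent_zpowers, F.cp 23 (by simp) _ hQ]; norm_num
  · rw [← Ore.cent_zpowers, F.cp 29 (by simp) _ hQ]; norm_num
  · rw [← Ore.cent_zpowers, F.cp 31 (by simp) _ hQ]; norm_num
  · rw [← Ore.cent_zpowers, F.cp 37 (by simp) _ hQ]; norm_num
  · rw [← Ore.cent_zpowers, F.cp 43 (by simp) _ hQ]; norm_num

theorem all : ∃ x : 𝒢, orderOf x = 23 ∧ ∀ g : 𝒢, ∃ u v : 𝒢, g = (u * x * u⁻¹) * (v * x⁻¹ * v⁻¹) := by
  have hfin := fin
  obtain ⟨x, hx23, hx1, hN⟩ := ext.all_tc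
  have f23 : Fact (Nat.Prime 23) := ⟨by norm_num⟩
  have hx : orderOf x = 23 := orderOf_eq_prime hx23 hx1
  refine ⟨x, hx, fun g => ?_⟩
  -- conjugates of elements of `N`
  have conjN : ∀ c : 𝒢, c * g * c⁻¹ ∈ N → ∃ u v : 𝒢, g = (u * x * u⁻¹) * (v * x⁻¹ * v⁻¹) := by
    intro c hc
    obtain ⟨u, v, h⟩ := hN _ hc
    refine ⟨c⁻¹ * u, c⁻¹ * v, ?_⟩
    calc g = c⁻¹ * (c * g * c⁻¹) * c := by group
      _ = c⁻¹ * ((u * x * u⁻¹) * (v * x⁻¹ * v⁻¹)) * c := by rw [h]
      _ = _ := by group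
  by_cases h5 : ∃ p : ℕ, p.Prime ∧ p ≠ 2 ∧ p ≠ 3 ∧ p ∣ orderOf g
  · obtain ⟨p, hp, h2, h3, hd⟩ := h5
    exact t1 hx ((five_case hp h2 h3 hd).trans (by norm_num))
  push Not at h5
  by_cases h3 : 3 ∣ orderOf g
  · rcases three_case h3 (fun h => h5 7 (by norm_num) (by norm_num) (by norm_num) h)
      (fun h => h5 11 (by norm_num) (by norm_num) (by norm_num) h) with h | ⟨c, hc⟩
    · exact t1 hx (h.trans (by norm_num))
    · exact conjN c hc
  · obtain ⟨n, hn⟩ := two_pow_of g (fun p hp h2 hd => by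
      by_cases hp3 : p = 3
      · subst hp3; exact h3 hd
      · exact h5 p hp h2 hp3 hd)
    obtain ⟨h, c, hc, -⟩ := ext.into (g := g) (n := n) (by rw [← hn]; exact pow_orderOf_eq_one g)
    refine conjN c⁻¹ ?_
    rw [hc]
    have : c⁻¹ * (c * (h : 𝒢) * c⁻¹) * c⁻¹⁻¹ = h := by group
    rw [this]
    exact h.2

/-- **row `J4` of S4173, S2464 and S2452** -/
theorem row : Cfsg.Agent.H210.TC.Row3 𝒢 := by
  have hfin := fin
  obtain ⟨x, hx, h⟩ := all
  obtain ⟨w, hw⟩ := real hx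
  refine Cfsg.Agent.H210.TC.Row3.of_sq (x := x) (by rw [hx]; norm_num) (by rw [hx]; norm_num) fun g _ => ?_
  obtain ⟨u, v, e⟩ := h g
  refine ⟨u, v * w, ?_⟩
  rw [e, ← hw]; group

end JFour

theorem row3_J4 {S : Type*} [Group S] (h : Spor.IsoJ4 S) : Cfsg.Agent.H210.TC.Row3 S := by
  obtain ⟨e⟩ := h
  exact JFour.row.of_equiv e

/-- **row `J4` of S4173** -/
theorem tc_J4 {S : Type*} [Group S] (h : Spor.IsoJ4 S) : Cfsg.Agent.H140.TC.TC S := by
  obtain ⟨x, y, -, -, -, -, h, -⟩ := row3_J4 h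
  exact ⟨x, y, h⟩

/-- **row `J4` of S2464** -/
theorem tc6_J4 {S : Type*} [Group S] (h : Spor.IsoJ4 S) : ∃ x y : S, Nat.Coprime (orderOf x) 6 ∧
    Nat.Coprime (orderOf y) 6 ∧ ∀ g : S, g ≠ 1 → ∃ u v : S, g = (u * x * u⁻¹) * (v * y * v⁻¹) :=
  (row3_J4 h).s2464

end Cfsg.Agent.H854.TC
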