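import Cfsg.Agent.H854.TC.MTc
import Cfsg.Agent.H854.Ore.J4Two
import Cfsg.Agent.J4.Invol

/-!
# `J4`: the subgroup `N = 2^11 : M24` (S4173, S2464, S2452) (helper854)
-/

set_option autoImplicit false
set_option Elab.async false

open Cfsg Subgroup

namespace Cfsg.Agent.H854.TC.JFour

open Cfsg.Agent.J4 Cfsg.Agent.J4.Invol Cfsg.Agent.J4.M24Hom Cfsg.Agent.J4.Rep112 Cfsg.Agent.J4.Lower

/-- the group `Spor.J4` -/
local notation "𝒢" => Cfsg.Spor.J4

theorem inj : Function.Injective rho := H858.VK.rho_injective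

theorem fin : Finite 𝒢 := H858.FixJ4.facts.1

/-- conjugation by `M24` preserves `EJ` -/
theorem conj_mem (g : M24) {a : 𝒢} (ha : a ∈ EJ) : Pres.phi g * a * (Pres.phi g)⁻¹ ∈ EJ := by
  rw [mem_EJ_iff inj] at ha ⊢
  rw [map_mul, map_mul, map_inv]
  exact (Subgroup.mem_normalizer_iff.mp (Classes.psi_norm ⟨g, rfl⟩) _).mp ha

theorem norm_phi : Pres.phi.range ≤ normalizer (EJ : Set 𝒢) := by
  rintro _ ⟨g, rfl⟩
  rw [Subgroup.mem_normalizer_iff]
  intro a
  refine ⟨fun ha => conj_mem g ha, fun ha => ?_⟩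
  have h1 := conj_mem g⁻¹ ha
  have h2 : Pres.phi g⁻¹ * (Pres.phi g * a * (Pres.phi g)⁻¹) * (Pres.phi g⁻¹)⁻¹ = a := by rw [map_inv]; group
  rwa [h2] at h1

theorem phi_inj : Function.Injective Pres.phi := by
  intro a b h
  exact Classes.psi_injective (congrArg rho h)

/-- the subgroup `2^11 : M24` -/
noncomputable def N : Subgroup 𝒢 := EJ ⊔ Pres.phi.range

theorem EJ_le : EJ ≤ N := le_sup_left

theorem phi_mem (g : M24) : Pres.phi g ∈ N := (le_sup_right : Pres.phi.range ≤ N) ⟨g, rfl⟩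

theorem norm_N : N ≤ normalizer (EJ : Set 𝒢) := sup_le Subgroup.le_normalizer norm_phi

theorem eq_one {a : M24} (ha : Pres.phi a ∈ EJ) : a = 1 := by
  have : IsSimpleGroup M24 := Cfsg.Agent.S0365.result
  exact ClassesAbs.eq_one_of_mem EJ (IsPGroup.of_card (card_EJ inj)) Pres.phi phi_inj
    LowerBound.not_two_group_M24 norm_phi a ha

theorem exists_mul {n : 𝒢} (hn : n ∈ N) : ∃ g : M24, n * (Pres.phi g)⁻¹ ∈ EJ := by
  obtain ⟨q, hq, _, ⟨g, rfl⟩, rfl⟩ := ClassesAbs.exists_mul_of_mem_sup norm_phi hn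
  exact ⟨g, by rwa [mul_inv_cancel_right]⟩

theorem unique {n : 𝒢} {g h : M24} (h1 : n * (Pres.phi g)⁻¹ ∈ EJ) (h2 : n * (Pres.phi h)⁻¹ ∈ EJ) : g = h := by
  have h3 := EJ.mul_mem (EJ.inv_mem h1) h2
  have e : (n * (Pres.phi g)⁻¹)⁻¹ * (n * (Pres.phi h)⁻¹) = Pres.phi (g * h⁻¹) := by
    rw [map_mul, map_inv]; group
  rw [e] at h3
  exact mul_inv_eq_one.1 (eq_one h3)

/-- the map onto `M24` -/
noncomputable def pi : N →* M24 where
  toFun n := (exists_mul n.2).choose
  map_one' := unique (exists_mul (1 : N).2).choose_spec (by rw [map_one, inv_one, mul_one]; exact EJ.one_mem)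
  map_mul' m n := by
    refine unique (exists_mul (m * n).2).choose_spec ?_
    have h1 := (exists_mul m.2).choose_spec
    have h2 := (exists_mul n.2).choose_spec
    generalize (exists_mul m.2).choose = g at *
    generalize (exists_mul n.2).choose = h at *
    have h3 := EJ.mul_mem h1 (conj_mem g h2)
    have e : (m : 𝒢) * (Pres.phi g)⁻¹ * (Pres.phi g * ((n : 𝒢) * (Pres.phi h)⁻¹) * (Pres.phi g)⁻¹) =
        ((m * n : N) : 𝒢) * (Pres.phi (g * h))⁻¹ := by
      rw [map_mul, Subgroup.coe_mul]; group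
    rwa [e] at h3

theorem pi_spec (n : N) : (n : 𝒢) * (Pres.phi (pi n))⁻¹ ∈ EJ := (exists_mul n.2).choose_spec

theorem pi_phi (g : M24) : pi ⟨Pres.phi g, phi_mem g⟩ = g :=
  unique (pi_spec _) (by rw [mul_inv_cancel]; exact EJ.one_mem)

theorem ker (n : N) : pi n = 1 ↔ (n : 𝒢) ∈ EJ := by
  constructor
  · intro h
    have := pi_spec n
    rwa [h, map_one, inv_one, mul_one] at this
  · intro h
    exact unique (pi_spec n) (by rw [map_one, inv_one, mul_one]; exact h)

theorem card_N : Nat.card N = 2 ^ 11 * 244823040 := by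
  have hfin := fin
  have h1 : pi.ker = EJ.subgroupOf N := by
    ext n
    rw [MonoidHom.mem_ker, ker, Subgroup.mem_subgroupOf]
  have h2 := Subgroup.card_eq_card_quotient_mul_card_subgroup pi.ker
  have hs : Function.Surjective pi := fun g => ⟨_, pi_phi g⟩
  rw [Nat.card_congr (QuotientGroup.quotientKerEquivOfSurjective pi hs).toEquiv, h1,
    Nat.card_congr (Subgroup.subgroupOfEquivOfLe EJ_le).toEquiv, card_EJ inj,
    Cfsg.Agent.SporadicA.M24Trans.card_M24] at h2
  rw [h2, mul_comm]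

theorem index_N : ¬ 2 ∣ N.index ∧ ¬ 3 ∣ N.index := by
  have h := N.card_mul_index
  rw [card_N, H858.FixJ4.facts.2.1] at h
  constructor <;> intro hd <;> omega

/-- **the subgroup `2^11 : M24` of `J4`** -/
theorem ext : Cfsg.Agent.H854.Ore.MExt EJ N pi where
  card := card_EJ inj
  sq := EJ_sq inj
  norm := norm_N
  surj := fun g => ⟨_, pi_phi g⟩
  ker := ker
  cen := fun x hx h => by
    have hs : IsSimpleGroup M24 := Cfsg.Agent.S0365.result
    let L : Subgroup M24 :=
      { carrier := {f | ∀ a ∈ EJ, Pres.phi f * a = a * Pres.phi f}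
        one_mem' := fun a _ => by rw [map_one, one_mul, mul_one]
        mul_mem' := fun {f g} hf hg a ha => by
          rw [map_mul, mul_assoc, hg a ha, ← mul_assoc, hf a ha, mul_assoc]
        inv_mem' := fun {f} hf a ha => by
          rw [map_inv]
          have h1 := hf a ha
          calc (Pres.phi f)⁻¹ * a = (Pres.phi f)⁻¹ * (a * Pres.phi f) * (Pres.phi f)⁻¹ := by group
            _ = (Pres.phi f)⁻¹ * (Pres.phi f * a) * (Pres.phi f)⁻¹ := by rw [h1]
            _ = _ := by group }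
    have hLn : L.Normal := ⟨fun f hf g a ha => by
      have h1 : (Pres.phi g)⁻¹ * a * Pres.phi g ∈ EJ := by
        have := conj_mem g⁻¹ ha
        rwa [map_inv, inv_inv] at this
      have h2 := hf _ h1
      rw [map_mul, map_mul, map_inv]
      calc Pres.phi g * Pres.phi f * (Pres.phi g)⁻¹ * a
          = Pres.phi g * (Pres.phi f * ((Pres.phi g)⁻¹ * a * Pres.phi g)) * (Pres.phi g)⁻¹ := by group
        _ = Pres.phi g * (((Pres.phi g)⁻¹ * a * Pres.phi g) * Pres.phi f) * (Pres.phi g)⁻¹ := by rw [h2]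
        _ = _ := by group⟩
    obtain ⟨q, hq, _, ⟨g, rfl⟩, rfl⟩ := ClassesAbs.exists_mul_of_mem_sup norm_phi hx
    have hg : g ∈ L := by
      intro a ha
      have h1 := h a ha
      have h2 := EJ_comm inj q a hq ha
      calc Pres.phi g * a = q⁻¹ * (q * Pres.phi g * a) := by group
        _ = q⁻¹ * (a * (q * Pres.phi g)) := by rw [h1]
        _ = q⁻¹ * (q * a) * Pres.phi g := by rw [h2]; group
        _ = _ := by group
    rcases hs.eq_bot_or_eq_top_of_normal L hLn with h3 | h3
    · rw [h3, Subgroup.mem_bot] at hg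
      rw [hg, map_one, mul_one]
      exact hq
    · exfalso
      have h4 : EJ ≤ zpowers s := by
        conv_lhs => rw [EJ]
        rw [closure_le]
        rintro _ ⟨g, rfl⟩
        have h5 : g ∈ L := by rw [h3]; trivial
        rw [h5 s (s_mem inj), mul_inv_cancel_right]
        exact mem_zpowers s
      have hfin := fin
      have h5 := Subgroup.card_le_of_le h4
      rw [card_EJ inj, Nat.card_zpowers] at h5
      have h6 : orderOf s ∣ 2 := orderOf_dvd_of_pow_eq_one (by rw [pow_two]; exact EJ_sq inj s (s_mem inj))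
      have h7 := Nat.le_of_dvd (by norm_num) h6
      omega
  odd := index_N.1

end Cfsg.Agent.H854.TC.JFour
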