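import Cfsg.Agent.H854.Ore.ExtAll

/-!
# Groups with a subgroup `N = 2^11 . M24` : every element of `N` is a product of a conjugate of `x` and a conjugate of
`x⁻¹`, `x` of order 23 (S4173, S2464) (helper854)

* `all_M24_tc` : the same for `M24` (the two classes are the classes of `x` and `x⁻¹`);
* `MExt.all_tc`.
-/

set_option autoImplicit false
set_option linter.unusedSectionVars false
set_option Elab.async false

open Cfsg Subgroup

namespace Cfsg.Agent.H854.TC

open Cfsg.Agent.SporadicStructure.M24El Cfsg.Agent.SporadicA.GolayPerm Cfsg.Agent.Lib.F2Mat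
open Cfsg.Agent.H334.Ore.Mat Cfsg.Agent.H854.Ore

/-- an element of order 23 -/
def X23 : ℕ := 956302485175575353788796878166559809

/-- `(h, h⁻¹, k)` with `c = (h x h⁻¹) (k x⁻¹ k⁻¹)` for the class representatives `c` -/
def WT : List (ℕ × ℕ × ℕ) := [(979458454230170189906356269054908051, 959359269975321467281073132481517732, 901699820655931051232519514856071200),
  (568175735904815342030332225356107090, 568175735904815342030332225356107090, 90912559474320365509832158771527328),
  (59903080424721945433272370243874984, 842943805623312335479558246931829489, 840803672336648203050267956065109344),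
  (522624868227334513472872904539817621, 649039234191592270074787940215918764, 592416346549839286732327123636573824),
  (52572816992184175195584325882025650, 550448751423544152808491340431232756, 191152889439780977622733823581830368),
  (223331539988957659554687385831758029, 460261492363102102693824722042630819, 138070059241477393351929553653085408),
  (652043561160524272214600862679898295, 29346530067719500920778880293946607, 840286660046873358577586548285443264),
  (102780135218796422780603796217476297, 846563987798742108580406373183020585, 717026847886313821369265313006654080),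
  (876739032325703151263027546346784942, 398160582753185747346289687952820326, 84688580296259780134200876155345376),
  (681986013389642010107614592622470752, 589711113917193320606873310027418752, 130193186115788124413892419395826112),
  (893534231559366522337597910722004229, 267051242930265792757688906298203534, 610786668410823186944004463278765184),
  (760809890523349869123231928395934988, 760809890523349869123231928395934988, 709286458993852674399223891816029792),
  (582375220312053895117058754611392118, 582375220312053895117058754611392118, 253347914132845594573605257590706592),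
  (860262326729110653980662599360385397, 900892833242797335917546835960020140, 516160312776508354939524008415313344),
  (687263586600491602319452390833855636, 589975106526256999937822377660227122, 149825197906989930150760644138512672),
  (527184960063024797082494030261754157, 153799738691341244048062287439335786, 361459836499966455839865506750479680),
  (587200715696060375226489968935509315, 440718548593803968905967982425939442, 889880751612055171502540759295692416),
  (645535384368631320934015369396622770, 726459304337489007940661679295318343, 546904401546521744846115971195806304),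
  (521366414552910786153029034648536137, 521366414552910786153029034648536137, 473926773181404227556213286603307744),
  (544360194986021349716843622974001606, 590801932323173960879948604000377007, 271390455449076000442149094721475680),
  (847739125046918611142623562604707876, 339516614587569894339456140313187362, 175465029821758340340795460997555840),
  (503799023915016821511684538674390454, 166822354199440689608632592174323083, 298125179633997216141528235128569280),
  (978118506653774105357058076477936242, 960699189079096648266625002402749637, 26917852917954896353350264506358241),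
  (971697665805113780122529866380817665, 972833839815830810932355054504840207, 756320204210514204989668264777450848),
  (479746545782697613344388304424157812, 639463876448765453142098810391243909, 552035776119940335893259616654507232)]

/-- the check -/
def chkW (r : Rec) (w : ℕ × ℕ × ℕ) : Bool :=
  ok r.c && (ok w.1 && (ok w.2.1 && (ok w.2.2 && (Nat.beq (pcomp w.1 w.2.1) idP &&
    Nat.beq (pcomp (pcomp r.c w.2.2) X23) (pcomp (pcomp (pcomp w.1 X23) w.2.1) w.2.2)))))

/-- the check of the list -/
def chkWL : List Rec → List (ℕ × ℕ × ℕ) → Bool
  | [], [] => true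
  | r :: D, w :: W => chkW r w && chkWL D W
  | _, _ => false

theorem exists_chkW : ∀ {D : List Rec} {W : List (ℕ × ℕ × ℕ)}, chkWL D W = true → ∀ r ∈ D, ∃ w, chkW r w = true := by
  intro D
  induction D with
  | nil => intro W _ r hr; exact absurd hr List.not_mem_nil
  | cons r D ih =>
    intro W h s hs
    cases W with
    | nil => exact Bool.noConfusion h
    | cons w W =>
      have h1 : chkW r w = true ∧ chkWL D W = true := by
        have h2 : (chkW r w && chkWL D W) = true := h
        rwa [Bool.and_eq_true] at h2
      rcases List.mem_cons.1 hs with rfl | hs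
      · exact ⟨w, h1.1⟩
      · exact ih h1.2 s hs

theorem hWT : chkWL Cfsg.Agent.H334.Ore.M24Data.D WT = true := by decide +kernel

theorem okX : (ok X23 && (Nat.beq (ppw X23 23) idP && !(Nat.beq (papp X23 0) 0 && Nat.beq (papp X23 1) 1))) = true := by
  decide +kernel

/-- the element of order 23 -/
noncomputable def xM : M24 := el X23

theorem xM_pow : xM ^ 23 = 1 ∧ xM ≠ 1 ∧ ok X23 = true := by
  have h := okX
  rw [Bool.and_eq_true, Bool.and_eq_true] at h
  obtain ⟨h1, h2, h3⟩ := h
  have e1 := congrArg el (Nat.eq_of_beq_eq_true h2)
  rw [(el_ppw h1 23).2, el_idP] at e1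
  have hm : ∃ i < 24, papp X23 i ≠ i := by
    by_contra hcon
    push Not at hcon
    rw [hcon 0 (by norm_num), hcon 1 (by norm_num)] at h3
    exact absurd h3 (by decide)
  exact ⟨e1, el_ne h1 hm, h1⟩

/-- **every element of `M24` is a product of a conjugate of `x` and a conjugate of `x⁻¹`** -/
theorem all_M24_tc (u : M24) : ∃ h k : M24, u = (h * xM * h⁻¹) * (k * xM⁻¹ * k⁻¹) := by
  rcases Cfsg.Agent.H334.Ore.M24R.cov u with rfl | ⟨r, hr, x, hx, hg⟩
  · exact ⟨1, 1, by group⟩
  · obtain ⟨w, hw⟩ := exists_chkW hWT r hr
    unfold chkW at hw
    rw [Bool.and_eq_true, Bool.and_eq_true, Bool.and_eq_true, Bool.and_eq_true, Bool.and_eq_true] at hw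
    obtain ⟨h0, h1, h2, h3, h4, h5⟩ := hw
    have hX := xM_pow.2.2
    obtain ⟨c, hc⟩ := isConj_iff.1 hg
    have hx' : x = el r.c := hx
    have e1 := congrArg el (Nat.eq_of_beq_eq_true h4)
    rw [el_pcomp h1 h2, el_idP] at e1
    have e2 := congrArg el (Nat.eq_of_beq_eq_true h5)
    rw [el_pcomp (ok_pcomp h0 h3) hX, el_pcomp h0 h3, el_pcomp (ok_pcomp (ok_pcomp h1 hX) h2) h3,
      el_pcomp (ok_pcomp h1 hX) h2, el_pcomp h1 hX, ← hx'] at e2
    have e3 : el w.2.1 = (el w.1)⁻¹ := eq_inv_of_mul_eq_one_right e1
    rw [e3] at e2
    have e4 : x = (el w.1 * xM * (el w.1)⁻¹) * (el w.2.2 * xM⁻¹ * (el w.2.2)⁻¹) := by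
      calc x = x * el w.2.2 * el X23 * ((el X23)⁻¹ * (el w.2.2)⁻¹) := by group
        _ = el w.1 * el X23 * (el w.1)⁻¹ * el w.2.2 * ((el X23)⁻¹ * (el w.2.2)⁻¹) := by rw [e2]
        _ = _ := by unfold xM; group
    refine ⟨c * el w.1, c * el w.2.2, ?_⟩
    rw [← hc]
    nth_rewrite 1 [e4]
    group

/-- **every element of `N = 2^11 . M24` is a product of a conjugate of `x` and a conjugate of `x⁻¹`** -/
theorem _root_.Cfsg.Agent.H854.Ore.MExt.all_tc {G : Type*} [Group G] [Finite G] {A N : Subgroup G} {π : N →* M24}
    (H : MExt A N π) : ∃ x : G, x ^ 23 = 1 ∧ x ≠ 1 ∧ ∀ g ∈ N, ∃ u v : G, g = (u * x * u⁻¹) * (v * x⁻¹ * v⁻¹) := by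
  obtain ⟨x, hx, hx23⟩ := H.liftOdd (m := 23) (by norm_num) xM_pow.1
  refine ⟨x, hx23, ?_, ?_⟩
  · intro h
    apply xM_pow.2.1
    rw [← hx]
    exact (H.ker x).2 (h ▸ A.one_mem)
  · intro g hg
    obtain ⟨h, k, hhk⟩ := all_M24_tc (π ⟨g, hg⟩)
    obtain ⟨h', rfl⟩ := H.surj h
    obtain ⟨k', rfl⟩ := H.surj k
    have ha1 : π (h' * x * h'⁻¹) ≠ 1 := by
      rw [map_mul, map_mul, map_inv, hx]
      intro h1
      apply xM_pow.2.1
      calc xM = (π h')⁻¹ * (π h' * xM * (π h')⁻¹) * π h' := by group
        _ = 1 := by rw [h1]; group
    have ha : (π (h' * x * h'⁻¹)) ^ 23 = 1 := by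
      rw [map_mul, map_mul, map_inv, hx, conj_pow, xM_pow.1]; group
    have hv : g * ((h' * x * h'⁻¹ * (k' * x⁻¹ * k'⁻¹) : N) : G)⁻¹ ∈ A := by
      have h1 := (H.ker (⟨g, hg⟩ * (h' * x * h'⁻¹ * (k' * x⁻¹ * k'⁻¹))⁻¹)).1 (by
        rw [map_mul, map_inv, hhk, map_mul, map_mul, map_mul, map_mul, map_mul, map_inv, map_inv, map_inv, hx,
          mul_inv_cancel])
      exact h1
    obtain ⟨y, hy, hyv⟩ := H.fill ha ha1 hv
    refine ⟨y * h', k', ?_⟩
    calc g = g * ((h' * x * h'⁻¹ * (k' * x⁻¹ * k'⁻¹) : N) : G)⁻¹ * ((h' * x * h'⁻¹ * (k' * x⁻¹ * k'⁻¹) : N) : G) := by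
          group
      _ = y * (((h' * x * h'⁻¹ : N) : G) * y⁻¹ * ((h' * x * h'⁻¹ : N) : G)⁻¹) *
          ((h' * x * h'⁻¹ * (k' * x⁻¹ * k'⁻¹) : N) : G) := by rw [hyv]
      _ = _ := by push_cast; group

end Cfsg.Agent.H854.TC
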